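import Cfsg.Agent.Lib.SporOutCo2.Rep

/-! The representation on the 4600 vectors, with its base point. -/

set_option autoImplicit false

namespace Cfsg.Agent.Lib.CoTwoUnitary

open Cfsg Cfsg.Agent.Lib.Coset Cfsg.Agent.Lib.Leech Golay
open scoped Pointwise

/-- A faithful representation on a certified orbit, given by a table, from simplicity. -/
theorem exists_based_rep {gs : List (List Op)} {T : List (ℕ × ℕ)} {start : ℕ} (P : Tab) (hP : P.Good)
    (v : ℕ → ℕ) (h : orbitOK gs T start P.size = true) (hlenG : P.gens = gs.length)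
    (hV : ∀ i < P.size, (orbitVecs gs T start).getD i 0 = v i)
    (hperm : ∀ j < P.gens, ∀ i < P.size, key (wRun (gs.getD j []) (v i)) = key (v (P.act j i)))
    (hne : ∃ j < P.gens, ∃ i < P.size, P.act j i ≠ i)
    (K : Subgroup ↥Co0) [IsSimpleGroup K] (hK : ∀ g ∈ gs, wCo g ∈ K) {x : ↥leechLattice}
    (hx : (x : GolayPt → ℤ) = toVec start) (hx64 : sqNorm (x : GolayPt → ℤ) ≤ 64)
    (S : Set ↥leechLattice) (hn : S.ncard = P.size) (hxS : x ∈ S) (hS : ∀ k ∈ K, ∀ y ∈ S, k • y ∈ S) :
    ∃ φ : ↥K →* Equiv.Perm (Fin P.size), Function.Injective φ ∧ (∀ j < P.gens, P.perm hP j ∈ φ.range) ∧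
      ∀ (h0 : 0 < P.size) (k : ↥K), φ k ⟨0, h0⟩ = ⟨0, h0⟩ → (k : ↥Co0) • x = x := by
  simp only [orbitOK, Bool.and_eq_true, List.all_eq_true, Nat.blt_eq, beq_iff_eq] at h
  obtain ⟨⟨⟨hok, hT⟩, hlen⟩, hd⟩ := h
  obtain ⟨hnd, -⟩ := distinctFrom_spec hd
  set V := orbitVecs gs T start with hVdef
  have hall : ∀ a ∈ V, ∃ k ∈ K, ((k • x : ↥leechLattice) : GolayPt → ℤ) = toVec a := by
    intro a ha
    rcases List.mem_cons.1 ha with rfl | ha
    · exact ⟨1, Subgroup.one_mem K, by rw [one_smul]; exact hx⟩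
    · exact walk_reach K hok hK x hx64 T [start] hT
        (fun c hc => by rw [List.mem_singleton.1 hc]; exact ⟨1, Subgroup.one_mem K, by rw [one_smul]; exact hx⟩) a ha
  choose f hf1 hf2 using hall
  have hmem : ∀ i : Fin P.size, V.getD i 0 ∈ V := fun i => by
    rw [List.getD_eq_getElem _ _ (show (i : ℕ) < V.length by rw [hlen]; exact i.2)]; exact List.getElem_mem _
  let w : Fin P.size → S := fun i => ⟨f _ (hmem i) • x, hS _ (hf1 _ _) x hxS⟩
  have hw : ∀ i, ((w i : ↥leechLattice) : GolayPt → ℤ) = toVec (V.getD i 0) := fun i => hf2 _ _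
  have hkey : ∀ {i j : Fin P.size}, key (V.getD i 0) = key (V.getD j 0) → i = j := fun {i j} e => by
    rw [List.getD_eq_getElem _ _ (show (i : ℕ) < V.length by rw [hlen]; exact i.2), List.getD_eq_getElem _ _ (show (j : ℕ) < V.length by rw [hlen]; exact j.2)] at e
    have hi : (i : ℕ) < (V.map key).length := by rw [List.length_map, hlen]; exact i.2
    have hj : (j : ℕ) < (V.map key).length := by rw [List.length_map, hlen]; exact j.2
    exact Fin.ext ((hnd.getElem_inj_iff (hi := hi) (hj := hj)).1 (by simpa using e))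
  have hinj : Function.Injective w := fun i j e => hkey (key_congr (by rw [← hw, ← hw, e]))
  have hnpos : 0 < P.size := by rw [← hlen, hVdef, orbitVecs, List.length_cons]; omega
  haveI : Finite S := (Set.finite_of_ncard_pos (hn ▸ hnpos)).to_subtype
  have hbij := hinj.bijective_of_nat_card_le (by rw [Nat.card_fin, Nat.card_coe_set_eq, hn])
  let e := Equiv.ofBijective w hbij
  let act : ↥K → Fin P.size → Fin P.size := fun g i =>
    e.symm ⟨(g : ↥Co0) • (e i : ↥leechLattice), hS _ g.2 _ (e i).2⟩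
  have hact : ∀ g i, ((e (act g i) : S) : ↥leechLattice) = (g : ↥Co0) • (e i : ↥leechLattice) := fun g i => by
    simp [act]
  have hmul : ∀ g g' i, act (g * g') i = act g (act g' i) := fun g g' i =>
    e.injective (Subtype.ext (by rw [hact, hact, hact, Subgroup.coe_mul, mul_smul]))
  have hone : ∀ i, act 1 i = i := fun i => e.injective (Subtype.ext (by rw [hact, Subgroup.coe_one, one_smul]))
  let φ : ↥K →* Equiv.Perm (Fin P.size) :=
    { toFun := fun g => ⟨act g, act g⁻¹, fun i => by rw [← hmul, inv_mul_cancel, hone],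
        fun i => by rw [← hmul, mul_inv_cancel, hone]⟩
      map_one' := Equiv.ext hone
      map_mul' := fun g g' => Equiv.ext (hmul g g') }
  have himg : ∀ j < P.gens, ∃ g, φ g = P.perm hP j := by
    intro j hj
    have hjg : j < gs.length := hlenG ▸ hj
    have hwm : gs.getD j [] ∈ gs := by rw [List.getD_eq_getElem _ _ hjg]; exact List.getElem_mem hjg
    refine ⟨⟨wCo (gs.getD j []), hK _ hwm⟩, Equiv.ext fun i => hkey ?_⟩
    have hval : ((P.perm hP j i : Fin P.size) : ℕ) = P.act j i := by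
      rw [Tab.perm, dif_pos hj]; rfl
    rw [hV ((P.perm hP j i : Fin P.size) : ℕ) (P.perm hP j i).2, hval, ← hperm j hj i i.2]
    refine key_congr ?_
    rw [← hw]
    show (((e (act _ i) : S) : ↥leechLattice) : GolayPt → ℤ) = _
    rw [hact]
    exact wRun_spec (hok _ hwm) ((hw i).trans (congrArg toVec (hV i i.2))) (by
      show sqNorm ((f _ (hmem i) • x : ↥leechLattice) : GolayPt → ℤ) ≤ 64
      exact (Same.sqNorm_eq (x := x) ⟨f _ (hmem i), rfl⟩).le.trans hx64)
  have hbase : ∀ h0 : 0 < P.size, ((e ⟨0, h0⟩ : S) : ↥leechLattice) = x := fun h0 => Subtype.ext (by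
    show ((w ⟨0, h0⟩ : ↥leechLattice) : GolayPt → ℤ) = _
    rw [hw, hVdef, orbitVecs, List.getD_cons_zero, hx])
  refine ⟨φ, ?_, fun j hj => himg j hj, fun h0 k hk => ?_⟩
  swap
  · have h1 := hact k ⟨0, h0⟩
    rw [show act k ⟨0, h0⟩ = ⟨0, h0⟩ from hk, hbase] at h1
    exact h1.symm
  rw [← MonoidHom.ker_eq_bot_iff]
  refine (IsSimpleGroup.eq_bot_or_eq_top_of_normal φ.ker inferInstance).resolve_right fun htop => ?_
  obtain ⟨j, hj, i, hi, hji⟩ := hne
  obtain ⟨g, hg⟩ := himg j hj
  have h1 : φ g = 1 := by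
    have : g ∈ φ.ker := htop ▸ Subgroup.mem_top g
    exact this
  rw [hg] at h1
  have h2 := congrArg (fun q : Equiv.Perm (Fin P.size) => ((q ⟨i, hi⟩ : Fin P.size) : ℕ)) h1
  simp only [Tab.perm, dif_pos hj, Equiv.Perm.one_apply] at h2
  exact hji h2

end Cfsg.Agent.Lib.CoTwoUnitary
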